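import Groth.Agent.GrpAct.GeomQuot
import Groth.Agent.QuillenPts.Descent
import Mathlib.AlgebraicGeometry.Sites.Fpqc

/-! # Geometric quotients descend along faithfully flat quasi-compact base change -/

set_option autoImplicit false
set_option linter.style.haveILetI false
set_option backward.isDefEq.respectTransparency false
universe u
open CategoryTheory MonoidalCategory CartesianMonoidalCategory MonObj GrpObj AlgebraicGeometry Topology

namespace Groth.Agent.EqInt

open Limits

open Groth.Agent.GeomQuot in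
theorem sections {S : Scheme.{u}} {G X Y X' Y' : Over S} [GrpObj G]
    (a : AlgGrp.Action G X) (a' : AlgGrp.Action G X') (φ : X ⟶ Y) (φ' : X' ⟶ Y') (pr : X' ⟶ X) (α : Y' ⟶ Y)
    [Flat α.left] [Surjective α.left] [QuasiCompact α.left] [QuasiCompact φ'.left]
    [Flat pr.left] [Surjective pr.left] (hinv : GIT.IsInvariant a φ)
    (hL : IsPullback pr.left φ'.left φ.left α.left) (heq : a'.act ≫ pr = (G ◁ pr) ≫ a.act)
    (hs : ∀ U : Y'.left.Opens,
      Function.Injective (φ'.left.app U) ∧ Set.range (φ'.left.app U) = {f | GIT.IsInvSection a' φ' U f})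
    (hsurj : Function.Surjective φ'.left.base) (U : Y.left.Opens) :
    Function.Injective (φ.left.app U) ∧ Set.range (φ.left.app U) = {f | GIT.IsInvSection a φ U f} := by
  let V := φ.left ⁻¹ᵁ U
  let U' := α.left ⁻¹ᵁ U
  let W := φ'.left ⁻¹ᵁ U'
  have hW : W = pr.left ⁻¹ᵁ V := by
    show φ'.left ⁻¹ᵁ (α.left ⁻¹ᵁ U) = pr.left ⁻¹ᵁ (φ.left ⁻¹ᵁ U)
    rw [← Scheme.Hom.comp_preimage, ← hL.w, Scheme.Hom.comp_preimage]
  have key : ∀ (W : X'.left.Opens) (e : W ≤ pr.left ⁻¹ᵁ V), W = pr.left ⁻¹ᵁ V →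
      Flat (pr.left.resLE V W e) ∧ Surjective (pr.left.resLE V W e) := by
    intro W e he
    subst he
    rw [Scheme.Hom.resLE_eq_morphismRestrict]
    exact ⟨IsZariskiLocalAtTarget.restrict ‹_› V, IsZariskiLocalAtTarget.restrict ‹_› V⟩
  let p := pr.left.resLE V W hW.le
  obtain ⟨_, _⟩ : Flat p ∧ Surjective p := key W hW.le hW
  have hp := Flat.epi_of_flat_of_surjective p
  let q := φ.left ∣_ U
  let q' := φ'.left ∣_ U'
  let c := α.left ∣_ U
  haveI : Flat c := IsZariskiLocalAtTarget.restrict ‹_› U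
  haveI : Surjective c := IsZariskiLocalAtTarget.restrict ‹_› U
  haveI : QuasiCompact c := IsZariskiLocalAtTarget.restrict ‹_› U
  haveI : QuasiCompact q' := IsZariskiLocalAtTarget.restrict ‹_› U'
  haveI : Surjective φ'.left := ⟨hsurj⟩
  haveI : Surjective q' := IsZariskiLocalAtTarget.restrict ‹_› U'
  have hsq : p ≫ q = q' ≫ c := by
    rw [← cancel_mono U.ι, Category.assoc, Category.assoc, morphismRestrict_ι, morphismRestrict_ι,
      morphismRestrict_ι_assoc, Scheme.Hom.resLE_comp_ι_assoc, hL.w]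
  have happ : ∀ {A B : Scheme.{u}} (g : A ⟶ B) (O : B.Opens) (s : Γ(B, O)),
      (g ∣_ O).appTop (res O s) = res (g ⁻¹ᵁ O) (g.app O s) := by
    intro A B g O s
    have h := res_natural g O (g ⁻¹ᵁ O) le_rfl s
    rw [Scheme.Hom.resLE_eq_morphismRestrict, ← Scheme.Hom.app_eq_appLE] at h
    exact h
  haveI : IsSchemeTheoreticallyDominant φ'.left := ⟨Scheme.IdealSheafData.ext (funext fun O => by
    rw [Scheme.Hom.ker_apply, Scheme.IdealSheafData.ideal_bot, Pi.bot_apply]
    exact (RingHom.injective_iff_ker_eq_bot _).mp (hs O.1).1)⟩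
  haveI : IsSchemeTheoreticallyDominant q' :=
    IsSchemeTheoreticallyDominant.of_isPullback (isPullback_morphismRestrict φ'.left U').flip
  refine ⟨fun s₁ s₂ he => ?_, Set.Subset.antisymm ?_ ?_⟩
  · obtain ⟨χ₁, hχ₁⟩ := ev_surjective (res U s₁)
    obtain ⟨χ₂, hχ₂⟩ := ev_surjective (res U s₂)
    have h' : q ≫ χ₁ = q ≫ χ₂ := ev_injective (by rw [ev_comp, ev_comp, hχ₁, hχ₂, happ, happ, he])
    have := Flat.epi_of_flat_of_surjective c
    have h'' : c ≫ χ₁ = c ≫ χ₂ := Groth.Agent.QuillenPts.cancel_of_surjective q'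
      (by rw [← reassoc_of% hsq, ← reassoc_of% hsq, h'])
    exact res_injective U (by rw [← hχ₁, ← hχ₂, (cancel_epi c).mp h''])
  · rintro _ ⟨s, rfl⟩
    change a.act.left.appLE _ _ _ (φ.left.app U s) = (snd G X).left.appLE _ _ _ (φ.left.app U s)
    rw [Scheme.Hom.app_eq_appLE, ← CommRingCat.comp_apply, ← CommRingCat.comp_apply, Scheme.Hom.appLE_comp_appLE,
      Scheme.Hom.appLE_comp_appLE]
    exact congr($(appLE_congr_hom (GIT.IsInvariant.left hinv) U _ _ _) s)
  · intro f hf
    let f' : Γ(X'.left, W) := pr.left.appLE V W hW.le f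
    have hf' : GIT.IsInvSection a' φ' U' f' := by
      unfold GIT.IsInvSection
      show a'.act.left.appLE W _ _ (pr.left.appLE V W hW.le f) = (snd G X').left.appLE W _ _ (pr.left.appLE V W hW.le f)
      rw [← CommRingCat.comp_apply, ← CommRingCat.comp_apply, Scheme.Hom.appLE_comp_appLE, Scheme.Hom.appLE_comp_appLE]
      let O := a.act.left ⁻¹ᵁ V ⊓ (snd G X).left ⁻¹ᵁ V
      have e1 : a'.act.left ≫ pr.left = (G ◁ pr).left ≫ a.act.left := by
        rw [← Over.comp_left, ← Over.comp_left, heq]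
      have e2 : (snd G X').left ≫ pr.left = (G ◁ pr).left ≫ (snd G X).left := by
        rw [← Over.comp_left, ← Over.comp_left, whiskerLeft_snd]
      have hO : a'.act.left ⁻¹ᵁ W ⊓ (snd G X').left ⁻¹ᵁ W ≤ (G ◁ pr).left ⁻¹ᵁ O := by
        rw [hW]
        intro t ht
        refine ⟨?_, ?_⟩
        · show a.act.left ((G ◁ pr).left t) ∈ V
          rw [← Scheme.Hom.comp_apply, ← e1, Scheme.Hom.comp_apply]
          exact ht.1
        · show (snd G X).left ((G ◁ pr).left t) ∈ V
          rw [← Scheme.Hom.comp_apply, ← e2, Scheme.Hom.comp_apply]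
          exact ht.2
      have he := congrArg ((G ◁ pr).left.appLE O _ hO).hom hf
      rw [← CommRingCat.comp_apply, ← CommRingCat.comp_apply, Scheme.Hom.appLE_comp_appLE, Scheme.Hom.appLE_comp_appLE] at he
      exact (congr($(appLE_congr_hom e1 V _ _ _) f)).trans (he.trans (congr($(appLE_congr_hom e2 V _ _ _) f)).symm)
    obtain ⟨s', hs'⟩ := (hs U').2.ge hf'
    obtain ⟨χ₀, hχ₀⟩ := ev_surjective (res V f)
    obtain ⟨ψ', hψ'⟩ := ev_surjective (res U' s')
    have hq'ψ : q' ≫ ψ' = p ≫ χ₀ := ev_injective (by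
      rw [ev_comp, ev_comp, hψ', hχ₀, happ, hs']
      exact (res_natural pr.left V W hW.le f).symm)
    have := Flat.epi_of_flat_of_surjective c
    let ψ : U.toScheme ⟶ Spec R0.{u} := EffectiveEpi.desc c ψ' fun {Z} g₁ g₂ hg => by
      have hW' : pullback.fst c c ≫ ψ' = pullback.snd c c ≫ ψ' := by
        let π₁ := pullback.fst c c
        let π₂ := pullback.snd c c
        let r := pullback.snd q' π₁
        haveI : IsSchemeTheoreticallyDominant r := inferInstance
        haveI : Surjective r := inferInstance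
        haveI : QuasiCompact r := inferInstance
        refine Groth.Agent.QuillenPts.cancel_of_surjective r ?_
        let x₁ := pullback.fst q' π₁ ≫ W.ι
        have hx₁ : x₁ ≫ φ'.left ≫ α.left = (r ≫ π₂) ≫ U'.ι ≫ α.left := by
          show (pullback.fst q' π₁ ≫ W.ι) ≫ φ'.left ≫ α.left = _
          rw [Category.assoc, ← morphismRestrict_ι_assoc, ← morphismRestrict_ι, pullback.condition_assoc,
            Category.assoc, pullback.condition_assoc]
        let x₂ := hL.lift (x₁ ≫ pr.left) (r ≫ π₂ ≫ U'.ι)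
          (by rw [Category.assoc, hL.w]; exact hx₁.trans (by simp only [Category.assoc]))
        have hr : Set.range x₂ ⊆ Set.range W.ι := by
          rw [Scheme.Opens.range_ι]
          rintro _ ⟨t, rfl⟩
          show φ'.left (x₂ t) ∈ U'
          rw [← Scheme.Hom.comp_apply, hL.lift_snd]
          exact (π₂ (r t)).2
        let l := IsOpenImmersion.lift W.ι x₂ hr
        have hl : l ≫ W.ι = x₂ := IsOpenImmersion.lift_fac _ _ _
        have h1 : l ≫ q' = r ≫ π₂ := by
          rw [← cancel_mono U'.ι, Category.assoc, morphismRestrict_ι, reassoc_of% hl, hL.lift_snd, Category.assoc]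
        have h2 : l ≫ p = pullback.fst q' π₁ ≫ p := by
          rw [← cancel_mono V.ι, Category.assoc, Category.assoc, Scheme.Hom.resLE_comp_ι, reassoc_of% hl, hL.lift_fst]
          rfl
        show r ≫ π₁ ≫ ψ' = r ≫ π₂ ≫ ψ'
        rw [← pullback.condition_assoc, hq'ψ, ← reassoc_of% h1, hq'ψ, reassoc_of% h2]
      rw [← pullback.lift_fst g₁ g₂ hg, Category.assoc, hW', pullback.lift_snd_assoc]
    have hψ : c ≫ ψ = ψ' := EffectiveEpi.fac _ _ _
    have hqψ : q ≫ ψ = χ₀ := by
      rw [← cancel_epi p, reassoc_of% hsq, hψ, hq'ψ]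
    obtain ⟨s, hs⟩ := (ConcreteCategory.bijective_of_isIso (res U)).2 (ev ψ)
    refine ⟨s, res_injective V ?_⟩
    rw [← happ, hs, ← ev_comp, hqψ, hχ₀]

theorem isGeomQuot_descend {S : Scheme.{u}}
    {G X Y X' Y' : Over S} [GrpObj G] (a : AlgGrp.Action G X) (φ : X ⟶ Y) [QuasiCompact φ.left]
    (hinv : GIT.IsInvariant a φ)
    (α : Y' ⟶ Y) [Flat α.left] [Surjective α.left] [QuasiCompact α.left]
    (pr : X' ⟶ X) (φ' : X' ⟶ Y') (hpb : IsPullback pr φ' φ α)
    (a' : AlgGrp.Action G X') (heq : a'.act ≫ pr = (G ◁ pr) ≫ a.act)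
    (h : GIT.IsGeomQuot a' φ') : GIT.IsGeomQuot a φ := by
  have hL : IsPullback pr.left φ'.left φ.left α.left := hpb.map (Over.forget _)
  haveI : Surjective pr.left := MorphismProperty.of_isPullback hL.flip ‹Surjective α.left›
  haveI : Flat pr.left := MorphismProperty.of_isPullback hL.flip ‹Flat α.left›
  have hqc : QuasiCompact φ.left := ‹_›
  haveI : QuasiCompact φ'.left := MorphismProperty.of_isPullback hL hqc
  refine ⟨hinv, ?_, ?_, ?_, fun U => sections a a' φ φ' pr α hinv hL heq h.sections h.surj U⟩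
  · intro y
    obtain ⟨y', rfl⟩ := α.left.surjective y
    obtain ⟨x', rfl⟩ := h.surj y'
    exact ⟨pr.left x', congr($(hL.w) x')⟩
  · intro z
    let β : Limits.pullback φ'.left φ'.left ⟶ Limits.pullback φ.left φ.left :=
      Limits.pullback.map _ _ _ _ pr.left pr.left α.left hL.w.symm hL.w.symm
    let w := Limits.pullback.fst φ.left φ.left ≫ φ.left
    obtain ⟨z₁, rfl⟩ := (Limits.pullback.fst w α.left).surjective z
    let x₁ := hL.lift (Limits.pullback.fst w α.left ≫ Limits.pullback.fst φ.left φ.left) (Limits.pullback.snd w α.left)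
      (by rw [Category.assoc]; exact Limits.pullback.condition)
    let x₂ := hL.lift (Limits.pullback.fst w α.left ≫ Limits.pullback.snd φ.left φ.left) (Limits.pullback.snd w α.left)
      (by rw [Category.assoc, ← Limits.pullback.condition]; exact Limits.pullback.condition)
    let gam : Limits.pullback w α.left ⟶ Limits.pullback φ'.left φ'.left :=
      Limits.pullback.lift x₁ x₂ (by simp only [x₁, x₂, hL.lift_snd])
    have hgam : gam ≫ β = Limits.pullback.fst w α.left := by
      apply Limits.pullback.hom_ext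
      · simp only [β, gam, x₁, Category.assoc, Limits.pullback.lift_fst, Limits.pullback.lift_fst_assoc, hL.lift_fst]
      · simp only [β, gam, x₂, Category.assoc, Limits.pullback.lift_snd, Limits.pullback.lift_snd_assoc, hL.lift_fst]
    obtain ⟨t, ht⟩ := h.orbit (gam z₁)
    refine ⟨(G ◁ pr).left t, ?_⟩
    have hcomm : (G ◁ pr).left ≫ GIT.PsiY a φ hinv = GIT.PsiY a' φ' h.inv ≫ β := by
      apply Limits.pullback.hom_ext
      · simp only [β, GIT.PsiY, Category.assoc, Limits.pullback.lift_fst, Limits.pullback.lift_fst_assoc]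
        rw [← Over.comp_left, ← Over.comp_left, heq]
      · simp only [β, GIT.PsiY, Category.assoc, Limits.pullback.lift_snd, Limits.pullback.lift_snd_assoc]
        rw [← Over.comp_left, ← Over.comp_left, whiskerLeft_snd]
    show GIT.PsiY a φ hinv ((G ◁ pr).left t) = _
    rw [← Scheme.Hom.comp_apply, hcomm, Scheme.Hom.comp_apply]
    show β (GIT.PsiY a' φ' h.inv t) = _
    rw [show GIT.PsiY a' φ' h.inv t = gam z₁ from ht, ← Scheme.Hom.comp_apply, hgam]
  · intro X'' T i₁ i₂ f' sq
    let i := Limits.pullback.fst α.left i₂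
    let k : Limits.pullback φ'.left i ⟶ X'' := sq.lift
      (Limits.pullback.snd φ'.left i ≫ Limits.pullback.snd α.left i₂)
      (Limits.pullback.fst φ'.left i ≫ pr.left)
      (by rw [Category.assoc, Category.assoc, hL.w, Limits.pullback.condition_assoc, Limits.pullback.condition])
    have hk : k ≫ f' = Limits.pullback.snd φ'.left i ≫ Limits.pullback.snd α.left i₂ := sq.lift_fst _ _ _
    have h1 : Topology.IsQuotientMap (Limits.pullback.snd φ'.left i).base :=
      h.subm _ _ _ (IsPullback.of_hasPullback _ _).flip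
    have h2 : Topology.IsQuotientMap (Limits.pullback.snd α.left i₂).base := Flat.isQuotientMap_of_surjective _
    have h3 := h2.comp h1
    rw [← TopCat.coe_comp, ← Scheme.Hom.comp_base, ← hk, Scheme.Hom.comp_base, TopCat.coe_comp] at h3
    exact Topology.IsQuotientMap.of_comp k.continuous f'.continuous h3

/-- the action on a fibre product with an invariant morphism -/
noncomputable def baseChange {S : Scheme.{u}} {G X Y Y' : Over S} [GrpObj G] (a : AlgGrp.Action G X)
    (φ : X ⟶ Y) (hinv : GIT.IsInvariant a φ) (α : Y' ⟶ Y) : AlgGrp.Action G (pullback φ α) where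
  act := pullback.lift ((G ◁ pullback.fst φ α) ≫ a.act) (snd G _ ≫ pullback.snd φ α) (by
    rw [Category.assoc, hinv, whiskerLeft_snd_assoc, Category.assoc, pullback.condition])
  one_act := by
    apply pullback.hom_ext
    · rw [Category.assoc, pullback.lift_fst, ← whisker_exchange_assoc, a.one_act]
      simp
    · rw [Category.assoc, pullback.lift_snd]
      simp [leftUnitor_hom]
  mul_act := by
    apply pullback.hom_ext
    · simp only [Category.assoc, pullback.lift_fst]
      rw [← whisker_exchange_assoc, a.mul_act, ← MonoidalCategory.whiskerLeft_comp_assoc,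
        pullback.lift_fst, MonoidalCategory.whiskerLeft_comp_assoc, associator_naturality_right_assoc]
    · simp

@[simp] theorem baseChange_fst {S : Scheme.{u}} {G X Y Y' : Over S} [GrpObj G] (a : AlgGrp.Action G X)
    (φ : X ⟶ Y) (hinv : GIT.IsInvariant a φ) (α : Y' ⟶ Y) :
    (baseChange a φ hinv α).act ≫ pullback.fst φ α = (G ◁ pullback.fst φ α) ≫ a.act :=
  pullback.lift_fst _ _ _

theorem baseChange_invariant {S : Scheme.{u}} {G X Y Y' : Over S} [GrpObj G] (a : AlgGrp.Action G X)
    (φ : X ⟶ Y) (hinv : GIT.IsInvariant a φ) (α : Y' ⟶ Y) :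
    GIT.IsInvariant (baseChange a φ hinv α) (pullback.snd φ α) :=
  pullback.lift_snd _ _ _

theorem isUnivGeomQuot_descend {S : Scheme.{u}}
    {G X Y X' Y' : Over S} [GrpObj G] (a : AlgGrp.Action G X) (φ : X ⟶ Y) [QuasiCompact φ.left]
    (hinv : GIT.IsInvariant a φ)
    (α : Y' ⟶ Y) [Flat α.left] [Surjective α.left] [QuasiCompact α.left]
    (pr : X' ⟶ X) (φ' : X' ⟶ Y') (hpb : IsPullback pr φ' φ α)
    (a' : AlgGrp.Action G X') (heq : a'.act ≫ pr = (G ◁ pr) ≫ a.act) (hinv' : GIT.IsInvariant a' φ')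
    (h : GIT.IsUnivGeomQuot a' φ') : GIT.IsUnivGeomQuot a φ := by
  refine ⟨isGeomQuot_descend a φ hinv α pr φ' hpb a' heq h.1, ?_⟩
  intro X₁ Y₁ pr₁ φ₁ g _ hp a₁ heq₁ hinv₁
  have hsq := ((IsPullback.of_hasPullback g α).map (Over.forget S)).flip
  have : Flat (pullback.fst g α).left := MorphismProperty.of_isPullback (P := @Flat) hsq ‹_›
  have : Surjective (pullback.fst g α).left := MorphismProperty.of_isPullback (P := @Surjective) hsq ‹_›
  have : QuasiCompact (pullback.fst g α).left :=
    MorphismProperty.of_isPullback (P := @QuasiCompact) hsq ‹_›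
  have : QuasiCompact φ₁.left :=
    MorphismProperty.of_isPullback (P := @QuasiCompact) (hp.map (Over.forget S)) ‹_›
  let α₁ := pullback.fst g α
  let a₂ := baseChange a₁ φ₁ hinv₁ α₁
  have big : IsPullback (pullback.fst φ₁ α₁ ≫ pr₁) (pullback.snd φ₁ α₁) φ (α₁ ≫ g) :=
    (IsPullback.of_hasPullback φ₁ α₁).paste_horiz hp
  let pr₂ := hpb.lift (pullback.fst φ₁ α₁ ≫ pr₁) (pullback.snd φ₁ α₁ ≫ pullback.snd g α)
    (by rw [big.w]; simp [α₁, pullback.condition])
  have hp₂ : IsPullback pr₂ (pullback.snd φ₁ α₁) φ' (pullback.snd g α) := by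
    refine IsPullback.of_right ?_ (hpb.lift_snd _ _ _) hpb
    rw [hpb.lift_fst, show pullback.snd g α ≫ α = α₁ ≫ g from pullback.condition.symm]
    exact big
  have heq₂ : a₂.act ≫ pr₂ = (G ◁ pr₂) ≫ a'.act := by
    apply hpb.hom_ext
    · simp only [a₂, pr₂, Category.assoc, hpb.lift_fst, heq]
      rw [← MonoidalCategory.whiskerLeft_comp_assoc, hpb.lift_fst, reassoc_of% baseChange_fst a₁ φ₁ hinv₁ α₁,
        heq₁, MonoidalCategory.whiskerLeft_comp_assoc]
    · simp only [a₂, pr₂, Category.assoc, hpb.lift_snd, show a'.act ≫ φ' = snd G X' ≫ φ' from hinv']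
      rw [reassoc_of% baseChange_invariant a₁ φ₁ hinv₁ α₁, whiskerLeft_snd_assoc, hpb.lift_snd]
  exact isGeomQuot_descend a₁ φ₁ hinv₁ α₁ (pullback.fst φ₁ α₁) (pullback.snd φ₁ α₁)
    (IsPullback.of_hasPullback φ₁ α₁) a₂ (baseChange_fst _ _ _ _)
    (h.2 pr₂ _ _ trivial hp₂ a₂ heq₂ (baseChange_invariant _ _ _ _))

end Groth.Agent.EqInt
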