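import Groth.Agent.GrpAct.Basic
import Groth.Prelude.Def_W4bk4git07Quot
import Groth.Prelude.Def_GLinSh
import Mathlib.CategoryTheory.Monoidal.Cartesian.Grp

/-! # The stabiliser is a group scheme -/

set_option autoImplicit false
set_option backward.isDefEq.respectTransparency false

universe u

open CategoryTheory CategoryTheory.Limits MonoidalCategory CartesianMonoidalCategory MonObj AlgebraicGeometry Opposite

namespace Groth.Agent.EqInt

variable {S : Scheme.{u}} {G X : Over S} [GrpObj G] (a : AlgGrp.Action G X) {P : Over S} (x : P ⟶ X)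

/-- a scheme over `P` seen over `S`, with its map to `P` -/
noncomputable def toP (U : Over P.left) : (Over.map P.hom).obj U ⟶ P := Over.homMk U.hom rfl

/-- points of the stabiliser -/
noncomputable def fixSub (U : Over P.left) : Subgroup ((Over.map P.hom).obj U ⟶ G) where
  carrier := {g | lift g (toP U ≫ x) ≫ a.act = toP U ≫ x}
  one_mem' := GrpAct.one_smul' a _
  mul_mem' := fun {g h} (hg : _ = _) (hh : _ = _) => by
    show lift (g * h) _ ≫ a.act = _
    rw [GrpAct.mul_smul, hh, hg]
  inv_mem' := fun {g} (hg : _ = _) => by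
    show lift g⁻¹ _ ≫ a.act = _
    conv_lhs => rw [← hg, ← GrpAct.mul_smul, inv_mul_cancel, GrpAct.one_smul']

/-- the functor of points of the stabiliser -/
noncomputable def fixFunctor : (Over P.left)ᵒᵖ ⥤ GrpCat.{u} where
  obj U := GrpCat.of (fixSub a x U.unop)
  map {U V} v := GrpCat.ofHom
    { toFun := fun g => ⟨(Over.map P.hom).map v.unop ≫ g.1, by
        show lift _ _ ≫ a.act = _
        have e : (Over.map P.hom).map v.unop ≫ toP U.unop = toP V.unop :=
          Over.OverMorphism.ext (Over.w v.unop)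
        have hg : lift g.1 (toP U.unop ≫ x) ≫ a.act = toP U.unop ≫ x := g.2
        rw [← e, Category.assoc, ← comp_lift, Category.assoc, hg]⟩
      map_one' := Subtype.ext (MonObj.comp_one _)
      map_mul' := fun g h => Subtype.ext (MonObj.comp_mul _ _ _) }
  map_id U := by
    ext g
    exact congr(($(Category.id_comp (g.1 : _ ⟶ G))).left)
  map_comp v w := by
    ext g
    show (((Over.map P.hom).map (w.unop ≫ v.unop)) ≫ g.1).left = _
    rw [Functor.map_comp, Category.assoc]
    rfl

/-- the stabiliser over `S` -/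
noncomputable def stabE : Over S := Over.mk (GLinSh.stabTo a x ≫ P.hom)

/-- the stabiliser inside `G ⊗ P` -/
noncomputable def incl : stabE a x ⟶ G ⊗ P :=
  Over.homMk (pullback.fst (GIT.psi a x).left (lift x (𝟙 P)).left) (by
    show _ = GLinSh.stabTo a x ≫ P.hom
    rw [← Over.w (GIT.psi a x), pullback.condition_assoc, Over.w (lift x (𝟙 P))]
    rfl)

/-- the stabiliser over `P` -/
noncomputable def proj : stabE a x ⟶ P := Over.homMk (GLinSh.stabTo a x) rfl

theorem isPullback_stabE : IsPullback (incl a x) (proj a x) (GIT.psi a x) (lift x (𝟙 P)) :=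
  IsPullback.of_map (Over.forget S) (Over.OverMorphism.ext pullback.condition)
    (IsPullback.of_hasPullback (GIT.psi a x).left (lift x (𝟙 P)).left)

theorem psi_iff {T : Over S} (g : T ⟶ G) (p : T ⟶ P) :
    lift g p ≫ GIT.psi a x = p ≫ lift x (𝟙 P) ↔ lift g (p ≫ x) ≫ a.act = p ≫ x := by
  have hl : lift g p ≫ GIT.psi a x = lift (lift g (p ≫ x) ≫ a.act) p := by
    rw [GIT.psi, comp_lift, lift_snd, lift_whiskerLeft_assoc]
  have hr : p ≫ lift x (𝟙 P) = lift (p ≫ x) p := by rw [comp_lift, Category.comp_id]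
  rw [hl, hr]
  exact ⟨fun h => by simpa using congr($h ≫ fst X P), fun h => by rw [h]⟩

theorem comp_incl_snd {T : Over S} (v : T ⟶ stabE a x) : (v ≫ incl a x) ≫ snd G P = v ≫ proj a x := by
  have e0 : GIT.psi a x ≫ snd X P = snd G P := lift_snd _ _
  rw [← e0, Category.assoc, (isPullback_stabE a x).w_assoc, lift_snd, Category.comp_id]

theorem fix_aux {T : Over S} (v : T ⟶ stabE a x) (p : T ⟶ P) (h : v ≫ proj a x = p) :
    lift ((v ≫ incl a x) ≫ fst G P) p ≫ GIT.psi a x = p ≫ lift x (𝟙 P) := by
  have h2 : (v ≫ incl a x) ≫ snd G P = p := (comp_incl_snd a x v).trans h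
  conv_lhs => rw [← h2]
  rw [lift_comp_fst_snd, Category.assoc, (isPullback_stabE a x).w, ← Category.assoc, h]

/-- a point over `P` seen over `S` -/
noncomputable def toE {U : Over P.left} (f : U ⟶ Over.mk (GLinSh.stabTo a x)) :
    (Over.map P.hom).obj U ⟶ stabE a x :=
  Over.homMk f.left ((Category.assoc _ _ _).symm.trans (congrArg (· ≫ P.hom) (Over.w f)))

theorem toE_proj {U : Over P.left} (f : U ⟶ Over.mk (GLinSh.stabTo a x)) :
    toE a x f ≫ proj a x = toP U :=
  Over.OverMorphism.ext (Over.w f)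

/-- a point of the stabiliser fixes `x` -/
noncomputable def ptFun {U : Over P.left} (f : U ⟶ Over.mk (GLinSh.stabTo a x)) : fixSub a x U :=
  ⟨(toE a x f ≫ incl a x) ≫ fst G P, (psi_iff a x _ (toP U)).mp (fix_aux a x (toE a x f) (toP U) (toE_proj a x f))⟩

theorem ptFun_bijective (U : Over P.left) : Function.Bijective (ptFun a x (U := U)) := by
  constructor
  · intro f f' h
    have e2 : toE a x f ≫ proj a x = toE a x f' ≫ proj a x := (toE_proj a x f).trans (toE_proj a x f').symm
    have e1 : toE a x f ≫ incl a x = toE a x f' ≫ incl a x :=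
      CartesianMonoidalCategory.hom_ext _ _ (congrArg Subtype.val h)
        (((comp_incl_snd a x _).trans e2).trans (comp_incl_snd a x _).symm)
    have e := (isPullback_stabE a x).hom_ext e1 e2
    exact Over.OverMorphism.ext (congrArg (fun v : (Over.map P.hom).obj U ⟶ stabE a x => v.left) e)
  · intro g
    obtain ⟨v, hv₁, hv₂⟩ : ∃ v, v ≫ incl a x = lift g.1 (toP U) ∧ v ≫ proj a x = toP U :=
      ⟨_, (isPullback_stabE a x).lift_fst _ _ ((psi_iff a x _ _).mpr g.2),
        (isPullback_stabE a x).lift_snd _ _ _⟩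
    have hw : v.left ≫ GLinSh.stabTo a x = U.hom :=
      congrArg (fun w : (Over.map P.hom).obj U ⟶ P => w.left) hv₂
    refine ⟨Over.homMk v.left hw, Subtype.ext ?_⟩
    have e : toE a x (Over.homMk v.left hw : U ⟶ Over.mk (GLinSh.stabTo a x)) = v :=
      Over.OverMorphism.ext rfl
    show (toE a x _ ≫ incl a x) ≫ fst G P = g.1
    rw [e, hv₁, lift_fst]

theorem ptFun_comp {U V : Over P.left} (v : U ⟶ V) (f : V ⟶ Over.mk (GLinSh.stabTo a x)) :
    ptFun a x (v ≫ f) = (fixFunctor a x).map v.op (ptFun a x f) := by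
  apply Subtype.ext
  show (toE a x (v ≫ f) ≫ incl a x) ≫ fst G P =
    (Over.map P.hom).map v ≫ (toE a x f ≫ incl a x) ≫ fst G P
  have e : toE a x (v ≫ f) = (Over.map P.hom).map v ≫ toE a x f := Over.OverMorphism.ext rfl
  simp only [e, Category.assoc]

/-- The stabiliser of `x` is a group scheme over `P`. -/
theorem nonempty_grpObj_stab : Nonempty (GrpObj (Over.mk (GLinSh.stabTo a x))) :=
  ⟨GrpObj.ofRepresentableBy _ (fixFunctor a x)
    { homEquiv := fun {U} => Equiv.ofBijective _ (ptFun_bijective a x U)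
      homEquiv_comp := fun v f => ptFun_comp a x v f }⟩

end Groth.Agent.EqInt
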